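import Mathlib
import Cfsg.Agent.Orth.Inv2Mat
import Cfsg.Agent.Orth.Base

/-!
# Orders of pointwise stabilisers of totally isotropic subspaces in orthogonal groups
-/

set_option autoImplicit false

namespace Cfsg.Agent.Orth

open QuadraticMap Module

universe u

variable {F V : Type*} [Field F] [AddCommGroup V] [Module F V] {Q : QuadraticForm F V}

theorem exists_hyperplane_avoid {U W : Submodule F V} {e : V} (hU : U ≤ W) (heW : e ∈ W)
    (heU : e ∉ U) : ∃ H, U ≤ H ∧ H ≤ W ∧ e ∉ H ∧ W = H ⊔ Submodule.span F {e} := by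
  obtain ⟨φ, hφ, hH⟩ := Submodule.exists_dual_map_eq_bot_of_notMem heU inferInstance
  refine ⟨W ⊓ LinearMap.ker φ, fun u hu => ⟨hU hu, ?_⟩, inf_le_left, fun h => hφ h.2, ?_⟩
  · have : φ u ∈ U.map φ := ⟨u, hu, rfl⟩
    rwa [hH] at this
  · apply le_antisymm
    · intro w hw
      refine Submodule.mem_sup.2 ⟨w - (φ w / φ e) • e, ⟨W.sub_mem hw (W.smul_mem _ heW), ?_⟩,
        (φ w / φ e) • e, Submodule.smul_mem _ _ (Submodule.mem_span_singleton_self e), by simp⟩
      simp [hφ]
    · exact sup_le inf_le_left ((Submodule.span_singleton_le_iff_mem _ _).2 heW)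

theorem mem_fixIn_sup {S : Subgroup (V ≃ₗ[F] V)} {H : Submodule F V} {e : V} {g : S} :
    g ∈ fixIn S (H ⊔ Submodule.span F {e}) ↔ (∀ h ∈ H, g.1 h = h) ∧ g.1 e = e :=
  ⟨fun hg => ⟨fun h hh => hg h (Submodule.mem_sup_left hh),
    hg e (Submodule.mem_sup_right (Submodule.mem_span_singleton_self e))⟩, fun hg w hw => by
    obtain ⟨h, hh, z, hz, rfl⟩ := Submodule.mem_sup.1 hw
    obtain ⟨c, rfl⟩ := Submodule.mem_span_singleton.1 hz
    rw [map_add, map_smul, hg.1 h hh, hg.2]⟩

variable [FiniteDimensional F V]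

theorem ND.card_fix_step [Finite F] (hQ : ND Q) {e f : V} (he : Q e = 0) (hf : Q f = 0)
    (hef : polar Q e f = 1) {H : Submodule F V} (hH : H ≤ perp Q (Submodule.span F {e, f})) :
    Nat.card (fixIn (OG Q) (H ⊔ Submodule.span F {e})) =
      Nat.card F ^ (finrank F V - finrank F H - 2) *
        Nat.card (fixIn (OG (Q.restrict (perp Q (Submodule.span F {e, f}))))
          (H.comap (perp Q (Submodule.span F {e, f})).subtype)) := by
  have hHe : ∀ h ∈ H, polar Q e h = 0 := fun h hh => (mem_perp_pair.1 (hH hh)).1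
  have hHf : ∀ h ∈ H, polar Q f h = 0 := fun h hh => (mem_perp_pair.1 (hH hh)).2
  have hfe : polar Q f e = 1 := by rw [polar_comm]; exact hef
  have hnd := hyp_inf_perp he hf hef
  rw [card_eq_orbit_mul_stabilizer (fixIn (OG Q) (H ⊔ Submodule.span F {e})) f]
  congr 1
  · let U := perp Q (H ⊔ Submodule.span F {e, f})
    have hU : ∀ z, z ∈ U ↔ (∀ h ∈ H, polar Q h z = 0) ∧ polar Q e z = 0 ∧ polar Q f z = 0 :=
      fun z => by simp only [U, perp_sup, Submodule.mem_inf, mem_perp_pair]; rfl
    have hdim : finrank F U = finrank F V - finrank F H - 2 := by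
      have h1 := hQ.finrank_perp_add (H ⊔ Submodule.span F {e, f})
      have h2 := Submodule.finrank_sup_add_finrank_inf_eq H (Submodule.span F {e, f})
      have h3 : H ⊓ Submodule.span F {e, f} = ⊥ := by
        rw [eq_bot_iff, ← hnd]
        exact fun x hx => ⟨hx.2, hH hx.1⟩
      have h4 := hQ.finrank_perp_hyp he hf hef
      have h5 := hQ.finrank_perp_add (Submodule.span F {e, f})
      rw [h3, finrank_bot] at h2
      simp only [U]; omega
    rw [← hdim, ← Module.natCard_eq_pow_finrank]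
    have hmem : ∀ y, y ∈ MulAction.orbit (fixIn (OG Q) (H ⊔ Submodule.span F {e})) f ↔
        Q y = 0 ∧ polar Q e y = 1 ∧ ∀ h ∈ H, polar Q h y = 0 := by
      intro y
      constructor
      · rintro ⟨g, rfl⟩
        obtain ⟨h1, h2⟩ := mem_fixIn_sup.1 g.2
        refine ⟨(g.1.2 f).trans hf, ?_, fun h hh => ?_⟩
        · have := OG.map_polar g.1 e f
          rw [h2] at this; exact this.trans hef
        · rw [← h1 h hh]; exact (OG.map_polar g.1 h f).trans (by rw [polar_comm, hHf h hh])
      · rintro ⟨h1, h2, h3⟩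
        have hW : ∀ w ∈ H ⊔ Submodule.span F {e}, polar Q e w = 0 := fun w hw => by
          obtain ⟨h, hh, z, hz, rfl⟩ := Submodule.mem_sup.1 hw
          obtain ⟨c, rfl⟩ := Submodule.mem_span_singleton.1 hz
          simp [hHe h hh, he]
        obtain ⟨g, -, hg, hgf⟩ := witt_step hQ ⊤ (fun _ => trivial) (fun _ _ => trivial)
          (H ⊔ Submodule.span F {e}) (u := f) (v := y)
          (fun h => by rw [hW f h] at hef; exact zero_ne_one hef)
          (fun h => by rw [hW y h] at h2; exact zero_ne_one h2) (hf.trans h1.symm)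
          (fun w hw => by
            obtain ⟨h, hh, z, hz, rfl⟩ := Submodule.mem_sup.1 hw
            obtain ⟨c, rfl⟩ := Submodule.mem_span_singleton.1 hz
            simp [h3 h hh, hef, h2, polar_comm Q h f, hHf h hh])
        exact ⟨⟨g, hg⟩, hgf⟩
    refine Nat.card_congr
      { toFun := fun y => ⟨y.1 - polar Q f y • e - f, ?_⟩
        invFun := fun z => ⟨z.1 - Q z • e + f, ?_⟩
        left_inv := fun y => Subtype.ext ?_
        right_inv := fun z => Subtype.ext ?_ }
    · obtain ⟨h1, h2, h3⟩ := (hmem _).1 y.2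
      exact (hU _).2 ⟨fun h hh => by
        simp [h3 h hh, polar_comm Q h e, polar_comm Q h f, hHe h hh, hHf h hh],
        by simp [he, hef, h2], by simp [hf, hfe]⟩
    · obtain ⟨h1, h2, h3⟩ := (hU _).1 z.2
      refine (hmem _).2 ⟨?_, by simp [h2, he, hef], fun h hh => by
        simp [h1 h hh, polar_comm Q h e, polar_comm Q h f, hHe h hh, hHf h hh]⟩
      simp [q_add, q_sub, q_smul, he, hf, hef, polar_comm Q z.1, h2, h3]
    · obtain ⟨h1, h2, h3⟩ := (hmem _).1 y.2
      have : Q (y.1 - polar Q f y • e - f) = - polar Q f y := by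
        simp [q_sub, q_smul, he, hf, hef, h1, polar_comm Q y.1, h2]
      simp only [this]
      module
    · obtain ⟨h1, h2, h3⟩ := (hU _).1 z.2
      simp only [polar_add_right, polar_sub_right, p_smul_right, h3, hfe, p_self, hf]
      module
  · have hc := hQ.isCompl_perp hnd
    let φ := (sumHom (splitIso hc)).comp (MonoidHom.inr _ _)
    have hφ : ∀ g (x : Submodule.span F {e, f}) (y : perp Q (Submodule.span F {e, f})),
        (φ g).1 (x + y) = x + g.1 y := fun g x y => by
      have := sumHom_apply (splitIso hc) (1, g) x y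
      rwa [splitIso_apply, splitIso_apply] at this
    have hφ1 : ∀ g, ∀ x ∈ Submodule.span F {e, f}, (φ g).1 x = x := fun g x hx => by
      simpa using hφ g ⟨x, hx⟩ 0
    have hφ2 : ∀ g (y : perp Q (Submodule.span F {e, f})), (φ g).1 y = g.1 y := fun g y => by
      simpa using hφ g 0 y
    have h4 : (MulAction.stabilizer (fixIn (OG Q) (H ⊔ Submodule.span F {e})) f).map
        (Subgroup.subtype _) = (fixIn _ (H.comap (perp Q (Submodule.span F {e, f})).subtype)).map φ := by
      ext g
      constructor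
      · rintro ⟨g, hg, rfl⟩
        obtain ⟨h1, h2⟩ := mem_fixIn_sup.1 g.2
        have h3 : ∀ w ∈ Submodule.span F {e, f}, g.1.1 w = w := fun w hw => by
          obtain ⟨a, b, rfl⟩ := Submodule.mem_span_pair.1 hw
          rw [map_add, map_smul, map_smul, h2, show g.1.1 f = f from hg]
        have h5 : g.1 ∈ (sumHom (splitIso hc)).range := by
          rw [hQ.range_sumHom_splitIso hnd]
          exact mem_stab_of_le fun w hw => by rwa [h3 w hw]
        obtain ⟨⟨a, b⟩, hab⟩ := h5
        have h6 : a = 1 := OG.ext fun x => Subtype.ext (by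
          have := sumHom_apply (splitIso hc) (a, b) x 0
          rw [hab, splitIso_apply, splitIso_apply] at this
          simpa [h3 x x.2] using this.symm)
        subst h6
        refine ⟨b, fun w hw => Subtype.ext ?_, hab⟩
        rw [← hφ2, show φ b = g.1 from hab]; exact h1 _ hw
      · rintro ⟨g, hg, rfl⟩
        refine ⟨⟨φ g, mem_fixIn_sup.2 ⟨fun h hh => ?_, hφ1 g e (Submodule.subset_span (by simp))⟩⟩,
          hφ1 g f (Submodule.subset_span (by simp)), rfl⟩
        rw [hφ2 g ⟨h, hH hh⟩, hg ⟨h, hH hh⟩ hh]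
    rw [← Subgroup.card_map_of_injective (Subgroup.subtype_injective _), h4,
      Subgroup.card_map_of_injective (f := φ) fun a b h => OG.ext fun x => Subtype.ext (by
        rw [← hφ2, h, hφ2])]

/-- The splitting off of a hyperbolic plane. -/
theorem ND.iso_hyp_perp (hQ : ND Q) {e f : V} (he : Q e = 0) (hf : Q f = 0)
    (hef : polar Q e f = 1) : Nonempty (((hypQ F).prod
      (Q.restrict (perp Q (Submodule.span F {e, f})))).IsometryEquiv Q) := by
  let j : F × F →ₗ[F] V := LinearMap.coprod (LinearMap.toSpanSingleton F V e)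
    (LinearMap.toSpanSingleton F V f)
  have hj : ∀ v, Q (j v) = hypQ F v := fun v => by
    simp [j, q_add, q_smul, he, hf, hef, mul_comm]
  have hr : LinearMap.range j = Submodule.span F {e, f} := by
    rw [LinearMap.range_coprod, ← LinearMap.span_singleton_eq_range,
      ← LinearMap.span_singleton_eq_range, ← Submodule.span_union]; rfl
  rw [← hr]
  exact ⟨hQ.embedIso nd_hypQ j hj⟩

omit [FiniteDimensional F V] in
theorem fixIn_bot (S : Subgroup (V ≃ₗ[F] V)) : fixIn S ⊥ = ⊤ := by
  rw [eq_top_iff]; intro g _ w hw; rw [(Submodule.mem_bot F).1 hw, map_zero]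

theorem card_fix_sing_aux [Finite F] {U : Type*} [AddCommGroup U] [Module F U]
    [FiniteDimensional F U] {A : QuadraticForm F U} (hA : ND A) (k : ℕ) :
    ∀ {V : Type u} [AddCommGroup V] [Module F V] [FiniteDimensional F V] {Q : QuadraticForm F V},
      ((plusQ k F).prod A).IsometryEquiv Q → ∀ W : Submodule F V, Sing Q W → finrank F W = k →
      Nat.card (fixIn (OG Q) W) =
        Nat.card F ^ (k * (k - 1) / 2 + k * finrank F U) * Nat.card (OG A) := by
  induction k with
  | zero =>
    intro V _ _ _ Q ε W _ hk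
    rw [Submodule.finrank_eq_zero.1 hk, fixIn_bot, Subgroup.card_top, ← card_OG_iso ε,
      ← card_OG_iso (zeroProdIso _ A)]
    simp
  | succ k ih =>
    intro V _ _ _ Q ε W hW hk
    have hQ : ND Q := (nd_prod (nd_plusQ _) hA).of_iso ε
    obtain ⟨e, heW, he0⟩ := Submodule.exists_mem_ne_zero_of_ne_bot (p := W)
      (by rintro rfl; simp at hk)
    obtain ⟨H, -, hHW, heH, rfl⟩ := exists_hyperplane_avoid bot_le heW (by simpa using he0)
    have he := hW e heW
    obtain ⟨f, hfH, hef, hf⟩ := hQ.exists_hyp_partner H heH he fun h hh => hW.polar (hHW hh) heW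
    have hH : H ≤ perp Q (Submodule.span F {e, f}) := fun h hh =>
      mem_perp_pair.2 ⟨hW.polar heW (hHW hh), by rw [polar_comm]; exact hfH h hh⟩
    rw [finrank_sup_span_singleton' heH] at hk
    obtain ⟨ε'⟩ := hQ.iso_hyp_perp he hf hef
    obtain ⟨ε''⟩ := witt_cancel nd_hypQ (nd_prod (nd_plusQ k) hA) (hQ.nd_perp_hyp he hf hef)
      (((plusProdSucc k A).trans ε).trans ε'.symm)
    have hn := iso_finrank ε
    rw [finrank_prod, finrank_plus] at hn
    rw [hQ.card_fix_step he hf hef hH, ih ε'' _ (fun w hw => hW _ (hHW hw))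
      ((Submodule.comapSubtypeEquivOfLe hH).finrank_eq.trans (by omega)), ← mul_assoc, ← pow_add]
    congr 2
    rw [Nat.triangle_succ, add_mul]
    omega

/-- The pointwise stabiliser of a totally singular subspace. -/
theorem card_fix_sing [Finite F] {U : Type*} [AddCommGroup U] [Module F U]
    [FiniteDimensional F U] {A : QuadraticForm F U} (hA : ND A) {k : ℕ}
    (ε : ((plusQ k F).prod A).IsometryEquiv Q) {W : Submodule F V} (hW : Sing Q W)
    (hk : finrank F W = k) : Nat.card (fixIn (OG Q) W) =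
      Nat.card F ^ (k * (k - 1) / 2 + k * finrank F U) * Nat.card (OG A) :=
  card_fix_sing_aux hA k ε W hW hk

theorem ND.card_OG_eq_nv_mul (hQ : ND Q) {v : V} (hv : Q v ≠ 0) :
    Nat.card (OG Q) = nv Q (Q v) * Nat.card (fixIn (OG Q) (Submodule.span F {v})) := by
  rw [card_eq_orbit_mul_stabilizer (OG Q) v]
  congr 1
  · refine Nat.card_congr (Equiv.subtypeEquivRight fun y => ⟨?_, fun h => ?_⟩)
    · rintro ⟨g, rfl⟩; exact g.2 v
    · exact witt_one hQ (ne_zero_of_Q_ne_zero hv) (ne_zero_of_Q_ne_zero (h ▸ hv)) h.symm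
  · congr 2
    ext g
    rw [← bot_sup_eq (Submodule.span F {v}), mem_fixIn_sup]
    simp [MulAction.mem_stabilizer_iff, OG.smul_def]

theorem ND.card_fix_nonsing_one [Finite F] (hQ : ND Q) (h2 : (2 : F) = 0) {v : V} (hv : Q v ≠ 0)
    {r : ℕ} (hn : finrank F V = 2 * (r + 1)) :
    Nat.card (fixIn (OG Q) (Submodule.span F {v})) = 2 * ordSp (Nat.card F) r := by
  have h1 := hQ.card_OG_eq_nv_mul hv
  have h3 := nv_char_two h2 Q hv
  have hq : 1 < Nat.card F := Finite.one_lt_card
  obtain ⟨q, hq'⟩ : ∃ q, Nat.card F = q + 1 := ⟨Nat.card F - 1, by omega⟩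
  have hq0 : (q : ℤ) ≠ 0 := by omega
  rw [hn, hq', Nat.add_sub_cancel] at h3
  have h3' : (nv Q 0 : ℤ) + q * nv Q (Q v) = (q + 1) ^ (2 * (r + 1)) := by exact_mod_cast h3
  have hp : 0 < (q + 1) ^ r := by positivity
  by_cases h : IsPlus Q
  · obtain ⟨ε⟩ := hQ.iso_plusQ h hn
    have h4 := nv_plusQ (F := F) r
    rw [nv_iso ε, hq'] at h4
    push_cast at h4
    have h6 : 1 < (q + 1) ^ (r + 1) := Nat.one_lt_pow (by omega) (by omega)
    have h5 : nv Q (Q v) = (q + 1) ^ r * ((q + 1) ^ (r + 1) - 1) := by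
      zify [h6.le]
      apply mul_left_cancel₀ hq0
      linear_combination h3' - h4
    rw [← card_OG_iso ε, card_OG_plusQ, h5, ← hq'] at h1
    rw [← hq'] at hp h6
    apply Nat.eq_of_mul_eq_mul_left (Nat.mul_pos hp (Nat.sub_pos_of_lt h6))
    rw [← h1, ordSp]; ring
  · obtain ⟨ζ, hζ⟩ := exists_aniso (F := F)
    obtain ⟨ε⟩ := hQ.iso_minusQ h (m := r) hn hζ
    have h4 := nv_minusQ (F := F) r hζ
    rw [nv_iso ε, hq'] at h4
    push_cast at h4
    have h5 : nv Q (Q v) = (q + 1) ^ r * ((q + 1) ^ (r + 1) + 1) := by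
      zify
      apply mul_left_cancel₀ hq0
      linear_combination h3' - h4
    rw [← card_OG_iso ε, card_OG_minusQ _ hζ, h5, ← hq'] at h1
    rw [← hq'] at hp
    apply Nat.eq_of_mul_eq_mul_left (Nat.mul_pos hp (Nat.zero_lt_succ (Nat.card F ^ (r + 1))))
    rw [Nat.succ_eq_add_one, ← h1, ordSp]; ring

theorem card_fix_nonsing_aux [Finite F] (h2 : (2 : F) = 0) (r k : ℕ) :
    ∀ {V : Type u} [AddCommGroup V] [Module F V] [FiniteDimensional F V] {Q : QuadraticForm F V},
      ND Q → finrank F V = 2 * (k + 1 + r) → ∀ W : Submodule F V, W ≤ perp Q W → ¬ Sing Q W →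
      finrank F W = k + 1 → Nat.card (fixIn (OG Q) W) =
        Nat.card F ^ ((k + 1) * k / 2 + 2 * k * r) * (2 * ordSp (Nat.card F) r) := by
  induction k with
  | zero =>
    intro V _ _ _ Q hQ hn W _ hW hk
    simp only [Sing, not_forall] at hW
    obtain ⟨v, hvW, hv⟩ := hW
    rw [← Submodule.eq_of_le_of_finrank_eq ((Submodule.span_singleton_le_iff_mem _ _).2 hvW)
      (by rw [finrank_span_singleton (ne_zero_of_Q_ne_zero hv), hk]),
      hQ.card_fix_nonsing_one h2 hv (r := r) (by omega)]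
    simp
  | succ k ih =>
    intro V _ _ _ Q hQ hn W hW hW' hk
    simp only [Sing, not_forall] at hW'
    obtain ⟨v, hvW, hv⟩ := hW'
    have hp : ∀ x ∈ W, ∀ y ∈ W, polar Q x y = 0 := fun x hx y hy => mem_perp.1 (hW hy) x hx
    obtain ⟨x, hxW, hx⟩ : ∃ x ∈ W, x ∉ Submodule.span F {v} := by
      by_contra hc
      push Not at hc
      have := Submodule.finrank_mono (show W ≤ _ from hc)
      rw [finrank_span_singleton (ne_zero_of_Q_ne_zero hv)] at this
      omega
    set e := x + sqrt2 h2 (Q x / Q v) • v with hedef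
    have heW : e ∈ W := W.add_mem hxW (W.smul_mem _ hvW)
    have he : Q e = 0 := by
      rw [hedef, q_add, q_smul, sqrt2_sq, hp x hxW _ (W.smul_mem _ hvW), div_mul_cancel₀ _ hv]
      linear_combination Q x * h2
    have hev : e ∉ Submodule.span F {v} := fun h => hx (by
      simpa [hedef] using Submodule.sub_mem _ h
        (Submodule.smul_mem _ (sqrt2 h2 (Q x / Q v)) (Submodule.mem_span_singleton_self v)))
    obtain ⟨H, hvH, hHW, heH, rfl⟩ := exists_hyperplane_avoid
      ((Submodule.span_singleton_le_iff_mem _ _).2 hvW) heW hev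
    obtain ⟨f, hfH, hef, hf⟩ := hQ.exists_hyp_partner H heH he fun h hh => hp _ (hHW hh) _ heW
    have hH : H ≤ perp Q (Submodule.span F {e, f}) := fun h hh =>
      mem_perp_pair.2 ⟨hp _ heW _ (hHW hh), by rw [polar_comm]; exact hfH h hh⟩
    rw [finrank_sup_span_singleton' heH] at hk
    have hvH' := hvH (Submodule.mem_span_singleton_self v)
    have hd := hQ.finrank_perp_hyp he hf hef
    rw [hQ.card_fix_step he hf hef hH, ih (hQ.nd_perp_hyp he hf hef) (by omega) _
      (fun y hy => mem_perp.2 fun x hx => hp _ (hHW hx) _ (hHW hy))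
      (fun h => hv (h ⟨v, hH hvH'⟩ hvH'))
      ((Submodule.comapSubtypeEquivOfLe hH).finrank_eq.trans (by omega)), ← mul_assoc, ← pow_add]
    congr 2
    have := Nat.triangle_succ (k + 1)
    simp only [Nat.add_sub_cancel] at this
    rw [this, show 2 * (k + 1) * r = 2 * k * r + 2 * r by ring]
    omega

/-- The pointwise stabiliser of a totally isotropic non-singular subspace, characteristic two. -/
theorem ND.card_fix_nonsing [Finite F] (hQ : ND Q) (h2 : (2 : F) = 0) {r k : ℕ}
    (hn : finrank F V = 2 * (k + 1 + r)) {W : Submodule F V} (hW : W ≤ perp Q W)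
    (hW' : ¬ Sing Q W) (hk : finrank F W = k + 1) : Nat.card (fixIn (OG Q) W) =
      Nat.card F ^ ((k + 1) * k / 2 + 2 * k * r) * (2 * ordSp (Nat.card F) r) :=
  card_fix_nonsing_aux h2 r k hQ hn W hW hW' hk

theorem ND.card_inf_commutator (hQ : ND Q) (hK : DickKer Q) (C : Subgroup (OG Q))
    (h : ∃ v, Q v ≠ 0 ∧ refl Q v ∈ C) :
    2 * Nat.card {g : commutator (OG Q) // g.1 ∈ C} = Nat.card C := by
  obtain ⟨v, hv, hvC⟩ := h
  have h1 : ((commutator (OG Q)).subgroupOf C).index = 2 := by
    rw [Subgroup.index_eq_two_iff]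
    refine ⟨⟨_, hvC⟩, fun b => ?_⟩
    rw [Subgroup.mem_subgroupOf, Subgroup.mem_subgroupOf, hK, hK, Subgroup.coe_mul, hQ.even_rk_mul']
    have := hQ.odd_rk_refl hv
    unfold Xor
    tauto
  rw [← Subgroup.index_mul_card ((commutator (OG Q)).subgroupOf C), h1]
  congr 1
  exact Nat.card_congr
    { toFun := fun g => ⟨⟨g.1.1, g.2⟩, g.1.2⟩
      invFun := fun g => ⟨⟨g.1.1, g.2⟩, g.1.2⟩
      left_inv := fun _ => rfl
      right_inv := fun _ => rfl }

end Cfsg.Agent.Orth
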